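import Cfsg.Agent.H0.OJ1.D
set_option maxRecDepth 100000
set_option Elab.async false
set_option linter.unusedSectionVars false
namespace H0.OJ1
open H0 BN 
theorem defs_ok : DefsOK R.p defs 9 := defsOK_of_chk c44
universe u
variable {G : Type u} [Group G] [Finite G] (m0 : Model G) (h0 : m0.R = H0.MJ1.R)
noncomputable def m : Model G := m0.ext (lg := nat_lit 9) (N := nat_lit 512) (l := H0.MJ1.nl) h0 nl nl_ok 9 rfl defs defs_ok (by decide +kernel)
theorem mR : (m m0 h0).R = R := rfl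
variable (hb : m0.pst [1, 111, 0] = ⊥) (hc : Nat.card G = 175560)
include h0 hb hc
theorem base : (m m0 h0).pst [1, 111, 0] = ⊥ := hb
omit hb hc in
theorem xch_ok : (m m0 h0).ChainOK xch [] := ((m m0 h0).chain_cons [0, 1, 0, 1, 0, 1, 0, 1, 0, 1, 0, 1, 0, 0] (Model.via _ (mR m0 h0) (fun R => Model.fixP R [] [[12], [13]]) c6) (Model.via _ (mR m0 h0) (fun R => Model.growP R [[12], [13]] [0, 1, 0, 1, 0, 1, 0, 1, 0, 1, 0, 1, 0, 0] 241 266) c7) ((m m0 h0).chain_cons [1, 0, 0, 0, 0, 1, 0, 0] (Model.via _ (mR m0 h0) (fun R => Model.fixP R [241] [[14], [15]]) c4) (Model.via _ (mR m0 h0) (fun R => Model.growP R [[14], [15]] [1, 0, 0, 0, 0, 1, 0, 0] 47 12) c5) ((m m0 h0).chain_cons [0, 1, 0, 0, 1, 0] (Model.via _ (mR m0 h0) (fun R => Model.fixP R [47, 241] [[16], [17]]) c2) (Model.via _ (mR m0 h0) (fun R => Model.growP R [[16], [17]] [0, 1, 0, 0, 1, 0] 70 11) c3) ((m m0 h0).chain_cons [0, 0, 0, 0] (Model.via _ (mR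 m0 h0) (fun R => Model.fixP R [70, 47, 241] [[18]]) c0) (Model.via _ (mR m0 h0) (fun R => Model.growP R [[18]] [0, 0, 0, 0] 196 5) c1) ((m m0 h0).chain_nil _)))))
theorem xtop : gen (m m0 h0).g (Model.cgens xch) = ⊤ := (m m0 h0).chain_top (xch_ok m0 h0) (hc.trans (by decide +kernel))
theorem xbdd : (m m0 h0).Bdd := (m m0 h0).bdd_of_top (xtop m0 h0 hb hc)
theorem xot : (m m0 h0).OTOK xOT := ((m m0 h0).otok_cons (xch_ok m0 h0) (hc.trans (by decide +kernel)) 1 rfl (Model.via _ (mR m0 h0) (fun R => Model.invB R (Model.cgens (xch.drop 1)) xO0) c13) ((m m0 h0).otok_cons (xch_ok m0 h0) (hc.trans (by decide +kernel)) 0 rfl (Model.via _ (mR m0 h0) (fun R => Model.invB R (Model.cgens (xch.drop 0)) xO1) c12) (m m0 h0).otok_nil))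
theorem xcm : ∀ w ∈ xCg, (m m0 h0).Cm [[9]] (ev (m m0 h0).g w) := (m m0 h0).cm_of_pairs (all_take_done (all_take_step (all_take_zero _ (xCg.flatMap fun w => [[9]].map fun y => (w ++ y, y ++ w))) ((m m0 h0).pairs_of (base m0 h0 hb hc) (Model.via _ (mR m0 h0) (fun R => pairsB R [1, 111, 0] (((xCg.flatMap fun w => [[9]].map fun y => (w ++ y, y ++ w)).drop 0).take 1)) c14))) (by decide +kernel))
theorem xn1 : (m m0 h0).Sol [[9]] xCg [196, 70, 47, 241] [196, 70, 47, 241] := (m m0 h0).sol_done [0, 1, 2, 3] (((m m0 h0).chain_bot (xch_ok m0 h0) (hc.trans (by decide +kernel))).le.trans bot_le) (by decide +kernel)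
theorem xn0 : (m m0 h0).Sol [[9]] xCg [] [] := (m m0 h0).sol_free (xbdd m0 h0 hb hc) (xcm m0 h0 hb hc) (xot m0 h0 hb hc) ((m m0 h0).excl_zero _ _) (Model.via _ (mR m0 h0) (fun R => freeB R xOT [[9]] xCg [] [] [] [] 241 0 [([], 241, 1)] [[0]] [0, 0, 0, 0, 0, 0, 0, 0, 0, 0, 0, 0, 0, 0, 0, 0, 0, 0] xc11) c11) ((m m0 h0).solL_leaves (xot m0 h0 hb hc) [0] (Bc := [196, 70, 47, 241]) (Model.via _ (mR m0 h0) (fun R => cycB R (subst [[9]] [0]) [196, 70, 47, 241]) c8) (Model.via _ (mR m0 h0) (fun R => allL (leafB R xOT (subst [[9]] [0]) [0, 1, 2, 3] [196, 70, 47, 241] [] []) xL10) c10) ((m m0 h0).solL_cons ((m m0 h0).sol_cyc [0] (Bc := [196, 70, 47, 241]) (T := [196, 70, 47, 241]) rfl (Model.via _ (mR m0 h0) (fun R => cycB R (subst [[9]] [0]) [196, 70, 47, 241]) c8) (Model.via _ (mR m0 h0) (fun R => cycB R (subst [[9]] [0]) [196, 70, 47, 241]) c9) (xn1 m0 h0 hb hc)) (m m0 h0).solL_nil))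
theorem xsol : (m m0 h0).Sol [[9]] xCg [] [] := xn0 m0 h0 hb hc
omit hb hc in
theorem ych_ok : (m m0 h0).ChainOK ych [] := ((m m0 h0).chain_cons [0, 1, 0, 1, 0, 1, 0, 1, 0, 1, 0, 1, 0, 1, 0] (Model.via _ (mR m0 h0) (fun R => Model.fixP R [] [[12], [13]]) c23) (Model.via _ (mR m0 h0) (fun R => Model.growP R [[12], [13]] [0, 1, 0, 1, 0, 1, 0, 1, 0, 1, 0, 1, 0, 1, 0] 201 266) c24) ((m m0 h0).chain_cons [0, 0, 1, 0, 0, 1] (Model.via _ (mR m0 h0) (fun R => Model.fixP R [201] [[19], [20]]) c21) (Model.via _ (mR m0 h0) (fun R => Model.growP R [[19], [20]] [0, 0, 1, 0, 0, 1] 152 11) c22) ((m m0 h0).chain_cons [0, 1, 0, 0, 0, 0] (Model.via _ (mR m0 h0) (fun R => Model.fixP R [152, 201] [[21], [22]]) c19) (Model.via _ (mR m0 h0) (fun R => Model.growP R [[21], [22]] [0, 1, 0, 0, 0, 0] 206 10) c20) ((m m0 h0).chain_cons [0, 1] (Model.via _ (mR m0 h0) (fun R => Model.fixP R [206, 152, 201] [[23], [24]]) c17) (Model.via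 _ (mR m0 h0) (fun R => Model.growP R [[23], [24]] [0, 1] 40 3) c18) ((m m0 h0).chain_cons [0] (Model.via _ (mR m0 h0) (fun R => Model.fixP R [40, 206, 152, 201] [[25]]) c15) (Model.via _ (mR m0 h0) (fun R => Model.growP R [[25]] [0] 0 2) c16) ((m m0 h0).chain_nil _))))))
theorem ytop : gen (m m0 h0).g (Model.cgens ych) = ⊤ := (m m0 h0).chain_top (ych_ok m0 h0) (hc.trans (by decide +kernel))
theorem ybdd : (m m0 h0).Bdd := (m m0 h0).bdd_of_top (ytop m0 h0 hb hc)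
theorem yot : (m m0 h0).OTOK yOT := ((m m0 h0).otok_cons (ych_ok m0 h0) (hc.trans (by decide +kernel)) 4 rfl (Model.via _ (mR m0 h0) (fun R => Model.invB R (Model.cgens (ych.drop 4)) yO0) c38) ((m m0 h0).otok_cons (ych_ok m0 h0) (hc.trans (by decide +kernel)) 1 rfl (Model.via _ (mR m0 h0) (fun R => Model.invB R (Model.cgens (ych.drop 1)) yO1) c37) ((m m0 h0).otok_cons (ych_ok m0 h0) (hc.trans (by decide +kernel)) 0 rfl (Model.via _ (mR m0 h0) (fun R => Model.invB R (Model.cgens (ych.drop 0)) yO2) c36) (m m0 h0).otok_nil)))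
theorem ycm : ∀ w ∈ yCg, (m m0 h0).Cm [[10]] (ev (m m0 h0).g w) := (m m0 h0).cm_of_pairs (all_take_done (all_take_step (all_take_zero _ (yCg.flatMap fun w => [[10]].map fun y => (w ++ y, y ++ w))) ((m m0 h0).pairs_of (base m0 h0 hb hc) (Model.via _ (mR m0 h0) (fun R => pairsB R [1, 111, 0] (((yCg.flatMap fun w => [[10]].map fun y => (w ++ y, y ++ w)).drop 0).take 1)) c39))) (by decide +kernel))
theorem yn3 : (m m0 h0).Sol [[10]] yCg [0, 40, 206, 152, 201] [0, 40, 206, 152, 201] := (m m0 h0).sol_done [0, 1, 2, 3, 4] (((m m0 h0).chain_bot (ych_ok m0 h0) (hc.trans (by decide +kernel))).le.trans bot_le) (by decide +kernel)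
theorem yn2 : (m m0 h0).Sol [[10]] yCg [40, 206, 152, 201] [40, 206, 152, 201] := (m m0 h0).sol_free (ybdd m0 h0 hb hc) (ycm m0 h0 hb hc) (yot m0 h0 hb hc) ((m m0 h0).excl_zero _ _) (Model.via _ (mR m0 h0) (fun R => freeB R yOT [[10]] yCg [0, 1, 2, 3] [40, 206, 152, 201] [40, 206, 152, 201] [] 0 0 [([], 0, 0)] [[0, 0, 0]] [0] yc29) c29) ((m m0 h0).solL_cons ((m m0 h0).sol_cyc [] (Bc := [0]) (T := [0]) rfl (Model.via _ (mR m0 h0) (fun R => cycB R (subst [[10]] []) [0]) c27) (Model.via _ (mR m0 h0) (fun R => cycB R (subst [[10]] []) [0]) c28) (yn3 m0 h0 hb hc)) (m m0 h0).solL_nil)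
theorem yn1 : (m m0 h0).Sol [[10]] yCg [201] [201] := (m m0 h0).sol_free (ybdd m0 h0 hb hc) (ycm m0 h0 hb hc) (yot m0 h0 hb hc) ((m m0 h0).excl_mov (ybdd m0 h0 hb hc) [0, 0, 0] (Model.via _ (mR m0 h0) (fun R => exclB R (subst [[10]] [0, 0, 0]) 152 yD1) c31)) (Model.via _ (mR m0 h0) (fun R => freeB R yOT [[10]] yCg [0] [201] [201] [] 152 yD1 [([], 152, 1)] [[0]] [0, 0] yc32) c32) ((m m0 h0).solL_cons ((m m0 h0).sol_cyc [0] (Bc := [40, 206, 152]) (T := [40, 206, 152]) rfl (Model.via _ (mR m0 h0) (fun R => cycB R (subst [[10]] [0]) [40, 206, 152]) c26) (Model.via _ (mR m0 h0) (fun R => cycB R (subst [[10]] [0]) [40, 206, 152]) c30) (yn2 m0 h0 hb hc)) (m m0 h0).solL_nil)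
theorem yn0 : (m m0 h0).Sol [[10]] yCg [] [] := (m m0 h0).sol_free (ybdd m0 h0 hb hc) (ycm m0 h0 hb hc) (yot m0 h0 hb hc) ((m m0 h0).excl_mov (ybdd m0 h0 hb hc) [0] (Model.via _ (mR m0 h0) (fun R => exclB R (subst [[10]] [0]) 201 yD0) c34)) (Model.via _ (mR m0 h0) (fun R => freeB R yOT [[10]] yCg [] [] [] [] 201 yD0 [([], 201, 2)] [[0]] [] yc35) c35) ((m m0 h0).solL_cons ((m m0 h0).sol_cyc [] (Bc := [201]) (T := [201]) rfl (Model.via _ (mR m0 h0) (fun R => cycB R (subst [[10]] []) [201]) c25) (Model.via _ (mR m0 h0) (fun R => cycB R (subst [[10]] []) [201]) c33) (yn1 m0 h0 hb hc)) (m m0 h0).solL_nil)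
theorem ysol : (m m0 h0).Sol [[10]] yCg [] [] := yn0 m0 h0 hb hc
theorem inj : Function.Injective (m m0 h0).φ := (m m0 h0).inj_of_base (base m0 h0 hb hc)
theorem gtop : gen (m m0 h0).g ([9, 10, 11].map fun x => [x]) = ⊤ :=
  top_of_marks ((m m0 h0).defsOK_g (inj m0 h0 hb hc) ((mR m0 h0).symm ▸ defs_ok)) _ (xtop m0 h0 hb hc) (by decide +kernel)
theorem cl : ∀ k ∈ Subgroup.centralizer {ev (m m0 h0).g [10]}, ∃ w ∈ CL, k = ev (m m0 h0).g w := fun k hk =>
  list_closed (all_take_done (all_take_step (all_take_zero _ CE) ((m m0 h0).pairs_of (base m0 h0 hb hc) (Model.via _ (mR m0 h0) (fun R => pairsB R [1, 111, 0] ((CE.drop 0).take 6)) c40))) (by decide +kernel)) (by decide +kernel) k ((m m0 h0).cent_le (ysol m0 h0 hb hc) hk)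
theorem ocl : (m m0 h0).OutCl 9 10 11 [(1, [])] :=
  (m m0 h0).outCl (r := 19) (t := 8) (s := 6) (e := 1) (n := 5) (K := [1, 2, 4]) (RL := RL) (EL := EL) hc (by decide +kernel) (by decide +kernel)
    (all_take_done (all_take_step (all_take_zero _ (Model.outE 9 10 11 [10] 19 8 1 5 RL)) ((m m0 h0).pairs_of (base m0 h0 hb hc) (Model.via _ (mR m0 h0) (fun R => pairsB R [1, 111, 0] (((Model.outE 9 10 11 [10] 19 8 1 5 RL).drop 0).take 6)) c41))) (by decide +kernel)) ((m m0 h0).ne_of_neB (Model.via _ (mR m0 h0) (fun R => neB R [9] [] 0 93 0) c42)) (xsol m0 h0 hb hc) (cl m0 h0 hb hc)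
    (by decide +kernel) (by decide +kernel) (all_take_done (all_take_step (all_take_zero _ EL) (allL_spec (Model.via _ (mR m0 h0) (fun R => allL (elimB R 9 10 11 RL [(1, [])]) ((EL.drop 0).take 18)) c43))) (by decide +kernel))
theorem out : Nat.card (Cfsg.Out G) = 1 := (m m0 h0).out_one (gtop m0 h0 hb hc) (ocl m0 h0 hb hc)
end H0.OJ1
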